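import Mathlib
import Groth.Prelude.Def_PLie

/-! Elementary facts on `p`-maps. -/

set_option autoImplicit false

universe u v w

namespace Groth.Agent.PLieLib

open PLie

section Ring

variable {R : Type u} [CommRing R] {p : ℕ} [CharP R p] {L : Type v} [LieRing L] [LieAlgebra R L]

theorem pow_lie {L' : Type w} [LieRing L'] [LieAlgebra R L'] (f : L →ₗ⁅R⁆ L') (x : L) :
    ∀ (k : ℕ) (y : L), f ((LieAlgebra.ad R L x ^ k) y) = (LieAlgebra.ad R L' (f x) ^ k) (f y)
  | 0, y => by simp
  | k + 1, y => by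
    rw [pow_succ', pow_succ', Module.End.mul_apply, Module.End.mul_apply, LieAlgebra.ad_apply, LieHom.map_lie, pow_lie f x k y,
      LieAlgebra.ad_apply]

theorem lie_map (φ : PMap R p L) (x y : L) : ⁅φ x, y⁆ = (LieAlgebra.ad R L x ^ p) y :=
  LinearMap.congr_fun (φ.ad_map x) y

theorem ad_iterate (φ : PMap R p L) (x : L) : ∀ n : ℕ,
    LieAlgebra.ad R L (φ.toFun^[n] x) = LieAlgebra.ad R L x ^ (p ^ n)
  | 0 => by simp
  | n + 1 => by rw [Function.iterate_succ_apply', φ.ad_map, ad_iterate φ x n, ← pow_mul, pow_succ]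

theorem mem_center_of_ad_eq {z w : L} (h : LieAlgebra.ad R L z = LieAlgebra.ad R L w) :
    z - w ∈ LieAlgebra.center R L := by
  rw [LieModule.mem_maxTrivSubmodule]
  intro y
  have hy : ⁅z, y⁆ = ⁅w, y⁆ := LinearMap.congr_fun h y
  rw [lie_sub, ← lie_skew, ← lie_skew y w, hy, sub_self]

theorem ad_center {z : L} (hz : z ∈ LieAlgebra.center R L) : LieAlgebra.ad R L z = 0 :=
  LinearMap.ext fun y => by
    rw [LieModule.mem_maxTrivSubmodule] at hz
    rw [LieAlgebra.ad_apply, ← lie_skew, hz y, neg_zero]; rfl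

theorem bracketWord_map {L' : Type w} [LieRing L'] [LieAlgebra R L'] (f : L →ₗ⁅R⁆ L') (x : Bool → L) (x₁ : L) :
    ∀ w : List Bool, f (bracketWord x x₁ w) = bracketWord (fun b => f (x b)) (f x₁) w
  | [] => rfl
  | i :: w => by rw [bracketWord_cons, bracketWord_cons, LieHom.map_lie, bracketWord_map f x x₁ w]

theorem jacobson_map {L' : Type w} [LieRing L'] [LieAlgebra R L'] (f : L →ₗ⁅R⁆ L') (a b : L) :
    f (jacobson R p a b) = jacobson R p (f a) (f b) := by
  have : (fun c => f (pair a b c)) = pair (f a) (f b) := funext fun c => by cases c <;> rfl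
  simp only [jacobson, map_sum, map_smul, bracketWord_map, this]

theorem bracketWord_zero (x : Bool → L) : ∀ w : List Bool, bracketWord x (0 : L) w = 0
  | [] => rfl
  | i :: w => by rw [bracketWord_cons, bracketWord_zero x w, lie_zero]

theorem jacobson_zero (a : L) : jacobson R p a 0 = 0 :=
  Finset.sum_eq_zero fun t _ => by rw [bracketWord_zero, smul_zero]

theorem isPHom_of_center (hp : p ≠ 0) {L' : Type w} [LieRing L'] [LieAlgebra R L'] (γ : PMap R p L) (γ' : PMap R p L')
    (hZ : LieAlgebra.center R L' = ⊥) (f : L →ₗ⁅R⁆ L') (hf : Function.Surjective f) : IsPHom γ γ' f := fun x => by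
  have h : LieAlgebra.ad R L' (f (γ x)) = LieAlgebra.ad R L' (γ' (f x)) := LinearMap.ext fun z => by
    obtain ⟨y, rfl⟩ := hf z
    rw [LieAlgebra.ad_apply, LieAlgebra.ad_apply, lie_map γ', ← LieHom.map_lie, lie_map γ, pow_lie]
  have := mem_center_of_ad_eq h
  rw [hZ, LieSubmodule.mem_bot, sub_eq_zero] at this
  exact this

end Ring

section Field

variable {k : Type u} [Field k] {p : ℕ} [CharP k p] {L : Type v} [LieRing L] [LieAlgebra k L]

/-- The ideal `I + k φ(x)`. -/
def adjoinPow (hp : p ≠ 0) (φ : PMap k p L) (I : LieIdeal k L) (x : L) (hx : x ∈ I) : LieIdeal k L :=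
  { toSubmodule := I.toSubmodule ⊔ (k ∙ φ x)
    lie_mem := fun {y m} hm => by
      obtain ⟨a, ha, b, hb, rfl⟩ := Submodule.mem_sup.1 hm
      obtain ⟨c, rfl⟩ := Submodule.mem_span_singleton.1 hb
      refine Submodule.mem_sup_left ?_
      rw [lie_add]
      refine add_mem (I.lie_mem ha) ?_
      rw [lie_smul]
      refine I.smul_mem c ?_
      rw [← lie_skew, lie_map]
      refine neg_mem ?_
      obtain ⟨q, rfl⟩ := Nat.exists_eq_succ_of_ne_zero hp
      rw [pow_succ', Module.End.mul_apply, LieAlgebra.ad_apply]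
      exact lie_mem_left k L I x _ hx }

theorem le_adjoinPow (hp : p ≠ 0) (φ : PMap k p L) (I : LieIdeal k L) (x : L) (hx : x ∈ I) :
    I ≤ adjoinPow hp φ I x hx := fun _ h => Submodule.mem_sup_left h

theorem mem_adjoinPow (hp : p ≠ 0) (φ : PMap k p L) (I : LieIdeal k L) (x : L) (hx : x ∈ I) :
    φ x ∈ adjoinPow hp φ I x hx := Submodule.mem_sup_right (Submodule.mem_span_singleton_self _)

theorem lie_pow_mem (hp : p ≠ 0) {N : LieIdeal k L} {x : L} (hx : x ∈ N) {i : ℕ} {z : L} (hz : z ∈ N.lcs L i) :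
    (LieAlgebra.ad k L x ^ p) z ∈ N.lcs L (i + 1) := by
  obtain ⟨q, rfl⟩ := Nat.exists_eq_succ_of_ne_zero hp
  rw [pow_succ, Module.End.mul_apply, LieAlgebra.ad_apply]
  have h1 : ⁅x, z⁆ ∈ N.lcs L (i + 1) := by
    rw [LieIdeal.lcs_succ]; exact LieSubmodule.lie_mem_lie hx hz
  clear * - h1
  induction q with
  | zero => simpa using h1
  | succ q ih => rw [pow_succ', Module.End.mul_apply]; exact LieSubmodule.lie_mem _ ih

theorem lcs_succ_le (N : LieIdeal k L) (i : ℕ) :
    ∀ z ∈ N.lcs L (i + 1), ∃ h : z ∈ N, (⟨z, h⟩ : N) ∈ LieModule.lowerCentralSeries k N N i := by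
  induction i with
  | zero =>
    intro z hz
    rw [LieIdeal.lcs_succ] at hz
    exact ⟨LieSubmodule.lie_le_left N (N.lcs L 0) hz, by simp⟩
  | succ i ih =>
    intro z hz
    rw [LieIdeal.lcs_succ, ← LieSubmodule.mem_toSubmodule, LieSubmodule.lieIdeal_oper_eq_linear_span] at hz
    induction hz using Submodule.span_induction with
    | mem w hw =>
      obtain ⟨⟨a, ha⟩, ⟨b, hb⟩, rfl⟩ := hw
      obtain ⟨hbN, hb'⟩ := ih b hb
      refine ⟨N.lie_mem hbN, ?_⟩
      rw [LieModule.lowerCentralSeries_succ]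
      exact LieSubmodule.lie_mem_lie (LieSubmodule.mem_top (⟨a, ha⟩ : N)) hb'
    | zero => exact ⟨zero_mem _, zero_mem _⟩
    | add a b _ _ ha hb => exact ⟨add_mem ha.1 hb.1, add_mem ha.2 hb.2⟩
    | smul c a _ ha => exact ⟨N.smul_mem c ha.1, (LieModule.lowerCentralSeries k N N i.succ).smul_mem c ha.2⟩

theorem exists_lcs_eq_bot (N : LieIdeal k L) (hN : LieRing.IsNilpotent N) : ∃ m, N.lcs L m = ⊥ := by
  obtain ⟨m, hm⟩ := (LieModule.isNilpotent_iff k N N).1 hN
  refine ⟨m + 1, (LieSubmodule.eq_bot_iff _).2 fun z hz => ?_⟩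
  obtain ⟨h, h'⟩ := lcs_succ_le N m z hz
  rw [hm, LieSubmodule.mem_bot] at h'
  exact congrArg Subtype.val h'

theorem ad_nilpotent_of_mem (N : LieIdeal k L) (hN : LieRing.IsNilpotent N) {x : L} (hx : x ∈ N) :
    ∃ m, LieAlgebra.ad k L x ^ m = 0 := by
  obtain ⟨m, hm⟩ := exists_lcs_eq_bot N hN
  refine ⟨m, LinearMap.ext fun y => ?_⟩
  have : ∀ i, (LieAlgebra.ad k L x ^ i) y ∈ N.lcs L i := fun i => by
    induction i with
    | zero => simp
    | succ i ih =>
      rw [pow_succ', Module.End.mul_apply, LieIdeal.lcs_succ]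
      exact LieSubmodule.lie_mem_lie hx ih
  have := this m
  rw [hm, LieSubmodule.mem_bot] at this
  simpa using this

theorem isNilpotent_adjoinPow (hp : p ≠ 0) (φ : PMap k p L) (N : LieIdeal k L) (hN : LieRing.IsNilpotent N) (x : L) (hx : x ∈ N) :
    LieRing.IsNilpotent (adjoinPow hp φ N x hx) := by
  obtain ⟨m, hm⟩ := exists_lcs_eq_bot N hN
  set J := adjoinPow hp φ N x hx
  have key : ∀ (i : ℕ), ∀ z ∈ LieModule.lowerCentralSeries k J J i, (z : L) ∈ N.lcs L i := fun i => by
    induction i with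
    | zero => intro z _; simp
    | succ i ih =>
      intro z hz
      rw [LieModule.lowerCentralSeries_succ, ← LieSubmodule.mem_toSubmodule, LieSubmodule.lieIdeal_oper_eq_linear_span] at hz
      induction hz using Submodule.span_induction with
      | mem w hw =>
        obtain ⟨⟨⟨y, hy⟩, -⟩, ⟨b, hb⟩, rfl⟩ := hw
        show ⁅y, (b : L)⁆ ∈ _
        obtain ⟨a, ha, c', hc', rfl⟩ := Submodule.mem_sup.1 hy
        obtain ⟨c, rfl⟩ := Submodule.mem_span_singleton.1 hc'
        rw [add_lie, smul_lie, lie_map]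
        refine add_mem ?_ ((N.lcs L (i + 1)).smul_mem c (lie_pow_mem hp hx (ih b hb)))
        rw [LieIdeal.lcs_succ]
        exact LieSubmodule.lie_mem_lie ha (ih b hb)
      | zero => exact zero_mem _
      | add a b _ _ ha hb => exact add_mem ha hb
      | smul c a _ ha => exact (N.lcs L (i + 1)).smul_mem c ha
  refine LieModule.IsNilpotent.mk (R := k) (M := J) (k := m) ((LieSubmodule.eq_bot_iff _).2 fun z hz => Subtype.ext ?_)
  have := key m z hz
  rwa [hm, LieSubmodule.mem_bot] at this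

theorem adjoinPow_mem_radical [Module.Finite k L] (hp : p ≠ 0) (φ : PMap k p L) (x : L) (hx : x ∈ LieAlgebra.radical k L) :
    φ x ∈ LieAlgebra.radical k L := by
  set N := LieAlgebra.radical k L
  set J := adjoinPow hp φ N x hx
  haveI : LieAlgebra.IsSolvable N := (LieAlgebra.LieIdeal.solvable_iff_le_radical k L N).2 le_rfl
  have h1 : ⁅J, J⁆ ≤ N := by
    refine (LieSubmodule.lie_le_iff J N J).2 fun a ha b hb => ?_
    obtain ⟨a', ha', c', hc', rfl⟩ := Submodule.mem_sup.1 ha
    obtain ⟨c, rfl⟩ := Submodule.mem_span_singleton.1 hc'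
    rw [add_lie, smul_lie, lie_map]
    refine add_mem (lie_mem_left k L N _ _ ha') (N.smul_mem c ?_)
    obtain ⟨q, rfl⟩ := Nat.exists_eq_succ_of_ne_zero hp
    rw [pow_succ', Module.End.mul_apply, LieAlgebra.ad_apply]
    exact lie_mem_left k L N x _ hx
  obtain ⟨m, hm⟩ := (LieAlgebra.isSolvable_iff k N).1 inferInstance
  rw [LieIdeal.derivedSeries_eq_bot_iff] at hm
  haveI : LieAlgebra.IsSolvable J := LieAlgebra.IsSolvable.mk (R := k) (k := m + 1) (by
    rw [LieIdeal.derivedSeries_eq_bot_iff, LieAlgebra.derivedSeriesOfIdeal_add, eq_bot_iff, ← hm]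
    refine LieAlgebra.derivedSeriesOfIdeal_le ?_ le_rfl
    rwa [LieAlgebra.derivedSeriesOfIdeal_succ, LieAlgebra.derivedSeriesOfIdeal_zero])
  exact (LieAlgebra.LieIdeal.solvable_iff_le_radical k L J).1 inferInstance (mem_adjoinPow hp φ N x hx)

theorem isNilpotent_of_pNilpotent [Module.Finite k L] (φ : PMap k p L) (I : LieIdeal k L)
    (hnil : ∀ x ∈ I, IsPNilpotent φ x) : LieRing.IsNilpotent I := by
  refine (LieModule.isNilpotent_iff_forall (R := k)).2 fun x => ?_
  obtain ⟨n, hn⟩ := hnil x x.2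
  refine ⟨p ^ n, LinearMap.ext fun y => Subtype.ext ?_⟩
  have h := LinearMap.congr_fun (ad_iterate φ (x : L) n) (y : L)
  rw [hn] at h
  have hcoe : ∀ i, (((LieModule.toEnd k I I x ^ i) y : I) : L) = (LieAlgebra.ad k L (x : L) ^ i) (y : L) := fun i => by
    induction i with
    | zero => rfl
    | succ i ih => rw [pow_succ', pow_succ', Module.End.mul_apply, Module.End.mul_apply, LieAlgebra.ad_apply, ← ih]; rfl
  rw [hcoe, ← h, LieAlgebra.ad_apply, zero_lie]
  rfl

end Field

end Groth.Agent.PLieLib
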