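import Groth.Agent.PLieLib.Jacobson
import Groth.Agent.PLieLib.Basic
import Groth.Agent.PBWRing.Basic

/-! Jacobson's theorem: `p`-maps prescribed on a basis. -/

set_option autoImplicit false

universe u v w

attribute [local instance] LieRing.ofAssociativeRing

open UniversalEnvelopingAlgebra

namespace Groth.Agent.PLieLib

variable {R : Type u} [CommRing R] {p : ℕ} [Fact p.Prime] [CharP R p] {L : Type v} [LieRing L] [LieAlgebra R L]

/-- The commutator of `a`, as an endomorphism. -/
theorem commutator_pow {A : Type v} [Ring A] [Algebra R A] (a z : A) :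
    ((fun y => a * y - y * a)^[p]) z = a ^ p * z - z * a ^ p := by
  have hS := natCast_eq_zero (R := R) (p := p) A
  have hp := (Fact.out : p.Prime).one_lt
  obtain ⟨q, hq⟩ : ∃ q, p = q + 1 := ⟨p - 1, by omega⟩
  have hiter : ((fun y => a * y - y * a)^[p]) z = a * ((fun y => a * y - y * a)^[p - 1]) z - ((fun y => a * y - y * a)^[p - 1]) z * a := by
    conv_lhs => rw [show p = p - 1 + 1 by omega, Function.iterate_succ_apply']
  rw [hiter, bracket_pow hS, Finset.mul_sum, Finset.sum_mul, ← Finset.sum_sub_distrib]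
  have hterm : ∀ i ∈ Finset.range p, a * (a ^ i * z * a ^ (p - 1 - i)) - a ^ i * z * a ^ (p - 1 - i) * a =
      (fun i => a ^ i * z * a ^ (p - i)) (i + 1) - (fun i => a ^ i * z * a ^ (p - i)) i := fun i hi => by
    rw [Finset.mem_range] at hi
    simp only
    rw [← mul_assoc, ← mul_assoc, ← pow_succ', mul_assoc (a ^ i * z), ← pow_succ,
      show p - 1 - i + 1 = p - i by omega, show p - 1 - i = p - (i + 1) by omega]
  rw [Finset.sum_congr rfl hterm, Finset.sum_range_sub (fun i => a ^ i * z * a ^ (p - i))]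
  simp

theorem exists_pmap {ι' : Type w} (b : Module.Basis ι' R L) (y : ι' → L)
    (hy : ∀ i, LieAlgebra.ad R L (b i) ^ p = LieAlgebra.ad R L (y i)) :
    ∃ φ : PLie.PMap R p L, ∀ i, φ (b i) = y i := by
  classical
  haveI : Nontrivial R := CharP.nontrivial_of_char_ne_one (R := R) (Fact.out : p.Prime).ne_one
  letI : LinearOrder ι' := linearOrderOfSTO WellOrderingRel
  have hp := (Fact.out : p.Prime)
  let B := PBWRing.basis b
  let one : ι' → PBWRing.Mon ι' := fun i => ⟨[i], (List.pairwise_singleton (· ≤ ·) i).sortedLE⟩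
  let top : ι' → PBWRing.Mon ι' := fun i => ⟨List.replicate p i, (List.pairwise_replicate.2 (Or.inr le_rfl)).sortedLE⟩
  have hBone : ∀ i, B (one i) = UniversalEnvelopingAlgebra.ι R (b i) := fun i => by
    rw [PBWRing.basis_apply]; simp [PBWRing.mon, one]
  have hBtop : ∀ i, B (top i) = UniversalEnvelopingAlgebra.ι R (b i) ^ p := fun i => by
    rw [PBWRing.basis_apply]; simp [PBWRing.mon, top, List.map_replicate, List.prod_replicate]
  let π : UniversalEnvelopingAlgebra R L →ₗ[R] L := B.constr R fun l =>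
    if h : ∃ i, l = one i then b h.choose else if h : ∃ i, l = top i then y h.choose else 0
  have hπ1 : ∀ i, π (UniversalEnvelopingAlgebra.ι R (b i)) = b i := fun i => by
    rw [← hBone, Module.Basis.constr_basis, dif_pos ⟨i, rfl⟩]
    have h : ∃ j, one i = one j := ⟨i, rfl⟩
    have := congrArg Subtype.val h.choose_spec
    simp only [one, List.cons.injEq, and_true] at this
    rw [← this]
  have hπp : ∀ i, π (UniversalEnvelopingAlgebra.ι R (b i) ^ p) = y i := fun i => by
    rw [← hBtop, Module.Basis.constr_basis, dif_neg, dif_pos ⟨i, rfl⟩]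
    · have h : ∃ j, top i = top j := ⟨i, rfl⟩
      have := congrArg Subtype.val h.choose_spec
      simp only [top] at this
      rw [List.replicate_right_inj hp.ne_zero] at this
      rw [← this]
    · rintro ⟨j, hj⟩
      have := congrArg (fun l => l.1.length) hj
      simp [top, one] at this
      exact hp.ne_one this
  have hπι : ∀ x, π (UniversalEnvelopingAlgebra.ι R x) = x := fun x => by
    have : π ∘ₗ (UniversalEnvelopingAlgebra.ι R : L →ₗ⁅R⁆ _).toLinearMap = LinearMap.id := b.ext fun i => hπ1 i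
    exact LinearMap.congr_fun this x
  let ι₀ := (UniversalEnvelopingAlgebra.ι R : L →ₗ⁅R⁆ UniversalEnvelopingAlgebra R L)
  have hinj : ∀ {x z : L}, ι₀ x = ι₀ z → x = z := fun {x z} h => by rw [← hπι x, ← hπι z]; exact congrArg π h
  let C := Submodule.span R (Set.range fun i => ι₀ (b i) ^ p - ι₀ (y i))
  have hbr : ∀ x z : L, ι₀ x * ι₀ z - ι₀ z * ι₀ x = ι₀ ⁅x, z⁆ := fun x z => (ι₀.map_lie x z).symm
  have hpow : ∀ x z : L, ι₀ x ^ p * ι₀ z - ι₀ z * ι₀ x ^ p = ι₀ ((LieAlgebra.ad R L x ^ p) z) := fun x z => by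
    rw [← commutator_pow (R := R)]
    have : ∀ n, ((fun w => ι₀ x * w - w * ι₀ x)^[n]) (ι₀ z) = ι₀ ((LieAlgebra.ad R L x ^ n) z) := fun n => by
      induction n with
      | zero => rfl
      | succ n ih => rw [Function.iterate_succ_apply', ih, pow_succ', Module.End.mul_apply, LieAlgebra.ad_apply, ← hbr]
    exact this p
  have hC : ∀ c ∈ C, π c = 0 ∧ ∀ z, c * ι₀ z - ι₀ z * c = 0 := fun c hc => by
    induction hc using Submodule.span_induction with
    | mem w hw =>
      obtain ⟨i, rfl⟩ := hw
      refine ⟨by rw [map_sub, hπp, hπι, sub_self], fun z => ?_⟩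
      rw [sub_mul, mul_sub, sub_sub_sub_comm, hpow, hbr, hy, LieAlgebra.ad_apply, sub_self]
    | zero => exact ⟨map_zero π, fun z => by simp⟩
    | add a c _ _ ha hc => exact ⟨by rw [map_add, ha.1, hc.1, add_zero], fun z => by rw [add_mul, mul_add, add_sub_add_comm, ha.2, hc.2, add_zero]⟩
    | smul r a _ ha => exact ⟨by rw [map_smul, ha.1, smul_zero], fun z => by rw [smul_mul_assoc, mul_smul_comm, ← smul_sub, ha.2, smul_zero]⟩
  have hjac : ∀ x z : L, PLie.jacobson R p (ι₀ x) (ι₀ z) = ι₀ (PLie.jacobson R p x z) := fun x z => (jacobson_map ι₀ x z).symm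
  have hG : ∀ x : L, ι₀ x ^ p - ι₀ (π (ι₀ x ^ p)) ∈ C := fun x => by
    induction b.mem_span x using Submodule.span_induction with
    | mem w hw =>
      obtain ⟨i, rfl⟩ := hw
      rw [hπp]; exact Submodule.subset_span ⟨i, rfl⟩
    | zero => rw [map_zero, zero_pow hp.ne_zero, map_zero, map_zero, sub_zero]; exact C.zero_mem
    | add a c _ _ ha hc =>
      rw [map_add, add_pow_char_eq (R := R), hjac, map_sub, map_add, hπι, map_sub, map_add,
        sub_sub_sub_cancel_right, add_sub_add_comm]
      exact C.add_mem ha hc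
    | smul r a _ ha =>
      rw [map_smul, smul_pow, map_smul, map_smul, ← smul_sub]
      exact C.smul_mem _ ha
  refine ⟨⟨fun x => π (ι₀ x ^ p), fun c x => ?_, fun x => LinearMap.ext fun z => hinj ?_, fun a c => ?_⟩, fun i => hπp i⟩
  · rw [map_smul, smul_pow, map_smul]
  · rw [LieAlgebra.ad_apply, ← hbr, ← hpow]
    have := (hC _ (hG x)).2 z
    rw [sub_mul, mul_sub, sub_sub_sub_comm, sub_eq_zero] at this
    exact this.symm
  · rw [map_add, add_pow_char_eq (R := R), hjac, map_sub, map_add, hπι]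

theorem existsUnique_pmap {ι' : Type w} (b : Module.Basis ι' R L) (y : ι' → L)
    (hy : ∀ i, LieAlgebra.ad R L (b i) ^ p = LieAlgebra.ad R L (y i)) :
    ∃! φ : PLie.PMap R p L, ∀ i, φ (b i) = y i := by
  obtain ⟨φ, hφ⟩ := exists_pmap b y hy
  refine ⟨φ, hφ, fun ψ hψ => ?_⟩
  have h : ∀ x, ψ.toFun x = φ.toFun x := fun x => by
    induction b.mem_span x using Submodule.span_induction with
    | mem w hw => obtain ⟨i, rfl⟩ := hw; exact (hψ i).trans (hφ i).symm
    | zero =>
      rw [show (0 : L) = (0 : R) • (0 : L) from (smul_zero _).symm, ψ.map_smul, φ.map_smul, zero_pow (Fact.out : p.Prime).ne_zero, zero_smul, zero_smul]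
    | add a c _ _ ha hc => rw [ψ.map_add, φ.map_add, ha, hc]
    | smul r a _ ha => rw [ψ.map_smul, φ.map_smul, ha]
  cases ψ; cases φ
  congr 1
  exact funext h

end Groth.Agent.PLieLib
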