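import Mathlib
import Groth.Prelude.Def_PLie

/-! Jacobson's formula in an associative algebra of prime characteristic. -/

set_option autoImplicit false

universe u v

attribute [local instance] LieRing.ofAssociativeRing

open Polynomial

namespace Groth.Agent.PLieLib

variable {R : Type u} [CommRing R] {p : ℕ} [Fact p.Prime] [CharP R p] {A : Type v} [Ring A] [Algebra R A]

theorem natCast_eq_zero (A : Type v) [Ring A] [Algebra R A] : (p : A) = 0 := by
  rw [← map_natCast (algebraMap R A), CharP.cast_eq_zero, map_zero]

theorem choose_eq {S : Type*} [Ring S] (hS : (p : S) = 0) : ∀ i ≤ p - 1, (((p - 1).choose i : ℕ) : S) = (-1) ^ i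
  | 0, _ => by simp
  | i + 1, hi => by
    have h := choose_eq hS i (by omega)
    have hp := (Fact.out : p.Prime)
    have h2 : (p.choose (i + 1) : S) = 0 := by
      obtain ⟨c, hc⟩ := hp.dvd_choose_self (Nat.succ_ne_zero i) (by omega)
      rw [hc, Nat.cast_mul, hS, zero_mul]
    rw [show p.choose (i + 1) = (p - 1).choose i + (p - 1).choose (i + 1) by
      conv_lhs => rw [show p = p - 1 + 1 by omega]
      exact Nat.choose_succ_succ _ _, Nat.cast_add, h] at h2
    rw [pow_succ, mul_neg_one, eq_neg_iff_add_eq_zero, add_comm]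
    exact h2

theorem bracket_pow {S : Type*} [Ring S] (hS : (p : S) = 0) (u x : S) :
    ((fun y => u * y - y * u)^[p - 1]) x = ∑ i ∈ Finset.range p, u ^ i * x * u ^ (p - 1 - i) := by
  have key : ∀ n : ℕ, ((fun y => u * y - y * u)^[n]) x =
      ∑ i ∈ Finset.range (n + 1), ((-1) ^ (n - i) * (n.choose i : ℤ)) • (u ^ i * x * u ^ (n - i)) := fun n => by
    let L : AddMonoid.End S := AddMonoidHom.mulLeft u
    let Rr : AddMonoid.End S := AddMonoidHom.mulRight u
    have hc : Commute L (-Rr) := Commute.neg_right (show Commute L Rr from AddMonoidHom.ext fun y => (mul_assoc u y u).symm)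
    have h1 : ((fun y => u * y - y * u)^[n]) x = ((L + -Rr) ^ n) x := by
      induction n with
      | zero => rfl
      | succ n ih => rw [Function.iterate_succ_apply', pow_succ', ih]; exact sub_eq_add_neg _ _
    have hL : ∀ (i : ℕ) y, (L ^ i) y = u ^ i * y := fun i => by
      induction i with
      | zero => intro y; simp
      | succ i ih => intro y; rw [pow_succ', pow_succ', mul_assoc, ← ih]; rfl
    have hR : ∀ (i : ℕ) y, ((-Rr) ^ i) y = ((-1 : ℤ) ^ i) • (y * u ^ i) := fun i => by
      induction i with
      | zero => intro y; simp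
      | succ i ih =>
        intro y
        rw [pow_succ' (-Rr)]
        show -((((-Rr) ^ i) y) * u) = _
        rw [ih, smul_mul_assoc, mul_assoc, ← pow_succ, pow_succ (-1 : ℤ), mul_neg_one, neg_smul]
    rw [h1, hc.add_pow]
    erw [AddMonoidHom.finsetSum_apply]
    refine Finset.sum_congr rfl fun i _ => ?_
    show (L ^ i) (((-Rr) ^ (n - i)) ((n.choose i : AddMonoid.End S) x)) = _
    rw [AddMonoid.End.natCast_apply, hR, hL, mul_smul, natCast_zsmul, mul_smul_comm, smul_mul_assoc, mul_smul_comm, mul_assoc]
  have hp := (Fact.out : p.Prime).one_lt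
  rw [key, show p - 1 + 1 = p by omega]
  refine Finset.sum_congr rfl fun i hi => ?_
  rw [Finset.mem_range] at hi
  have : (((-1) ^ (p - 1 - i) * ((p - 1).choose i : ℤ) : ℤ) : S) = 1 := by
    push_cast
    rw [← Nat.choose_symm (show i ≤ p - 1 by omega), choose_eq hS _ (Nat.sub_le _ _), ← pow_add, Even.neg_one_pow ⟨_, rfl⟩]
  rw [← Int.cast_smul_eq_zsmul S, this, one_smul]

theorem step (a b W : A) (k : ℕ) : (C a + X * C b) * (C W * X ^ k) - C W * X ^ k * (C a + X * C b) =
    C (b * W - W * b) * X ^ (1 + k) + C (a * W - W * a) * X ^ k := by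
  rw [(commute_X (C b)).eq, C_mul_X_eq_monomial, ← monomial_zero_left, C_mul_X_pow_eq_monomial, add_mul, mul_add]
  simp only [monomial_mul_monomial, zero_add, add_zero, map_sub, sub_mul, monomial_zero_left, C_mul_monomial, monomial_mul_C, C_mul_X_pow_eq_monomial, add_comm k 1]
  abel

theorem word_expansion (a b : A) : ∀ n : ℕ,
    ((fun y => (C a + X * C b) * y - y * (C a + X * C b))^[n]) (C b) =
      ∑ w : Fin n → Bool, C (PLie.bracketWord (PLie.pair a b) b (List.ofFn w)) * X ^ (Fintype.card {i // w i = true}) := by
  intro n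
  induction n with
  | zero => simp
  | succ n ih =>
    have hw : ∀ (d : Bool) (w : Fin n → Bool), Fintype.card {i // (Fin.cons d w : Fin (n + 1) → Bool) i = true} =
        (if d then 1 else 0) + Fintype.card {i // w i = true} := fun d w => by
      rw [Fintype.card_subtype, Fintype.card_subtype, Fin.card_filter_univ_succ]
      cases d <;> simp [add_comm]
    rw [Function.iterate_succ_apply', ih, Finset.mul_sum, Finset.sum_mul, ← Finset.sum_sub_distrib,
      ← Equiv.sum_comp (Fin.consEquiv fun _ => Bool), Fintype.sum_prod_type, Fintype.sum_bool, ← Finset.sum_add_distrib]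
    refine Finset.sum_congr rfl fun w _ => ?_
    show (C a + X * C b) * (C (PLie.bracketWord (PLie.pair a b) b (List.ofFn w)) * X ^ _) -
        C (PLie.bracketWord (PLie.pair a b) b (List.ofFn w)) * X ^ _ * (C a + X * C b) =
      C (PLie.bracketWord (PLie.pair a b) b (List.ofFn (Fin.cons true w : Fin (n + 1) → Bool))) *
          X ^ Fintype.card {i // (Fin.cons true w : Fin (n + 1) → Bool) i = true} +
        C (PLie.bracketWord (PLie.pair a b) b (List.ofFn (Fin.cons false w : Fin (n + 1) → Bool))) *
          X ^ Fintype.card {i // (Fin.cons false w : Fin (n + 1) → Bool) i = true}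
    rw [hw, hw, List.ofFn_cons, List.ofFn_cons, PLie.bracketWord_cons, PLie.bracketWord_cons, step,
      if_pos rfl, if_neg Bool.false_ne_true, zero_add]
    rfl

/-- **Jacobson's formula.** -/
theorem add_pow_char_eq (a b : A) : (a + b) ^ p = a ^ p + b ^ p - PLie.jacobson R p a b := by
  classical
  have hp := (Fact.out : p.Prime)
  obtain ⟨q, hq⟩ : ∃ q, p = q + 1 := ⟨p - 1, by have := hp.one_lt; omega⟩
  set u : A[X] := C a + X * C b with hu
  have hA : (p : A[X]) = 0 := by rw [← map_natCast C, natCast_eq_zero (R := R) A, map_zero]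
  have hdu : derivative u = C b := by rw [hu, map_add, derivative_C, derivative_mul, derivative_X, derivative_C]; simp
  have hder : ∀ n, derivative (u ^ n) = ∑ i ∈ Finset.range n, u ^ i * C b * u ^ (n - 1 - i) := fun n => by
    induction n with
    | zero => simp
    | succ n ih =>
      rw [pow_succ, derivative_mul, ih, hdu, Finset.sum_range_succ, Finset.sum_mul]
      congr 1
      · refine Finset.sum_congr rfl fun i hi => ?_
        rw [Finset.mem_range] at hi
        rw [mul_assoc, ← pow_succ, show n - 1 - i + 1 = n + 1 - 1 - i by omega]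
      · simp
  have hcoeff : ∀ m, (u ^ p).coeff (m + 1) * ((m : A) + 1) =
      ∑ w : Fin (p - 1) → Bool, if Fintype.card {i // w i = true} = m then PLie.bracketWord (PLie.pair a b) b (List.ofFn w) else 0 := fun m => by
    rw [← coeff_derivative, hder, ← bracket_pow hA, word_expansion, finsetSum_coeff]
    refine Finset.sum_congr rfl fun w _ => ?_
    rw [coeff_C_mul_X_pow]
    exact if_congr eq_comm rfl rfl
  have hdeg : u.natDegree ≤ 1 := by
    refine (natDegree_add_le _ _).trans (max_le (by simp) ?_)
    rw [(commute_X (C b)).eq]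
    exact natDegree_C_mul_le b X |>.trans natDegree_X_le
  have hdegp : (u ^ p).natDegree < p + 1 := by
    have := natDegree_pow_le_of_le p hdeg
    omega
  have h1 : (a + b) ^ p = ∑ m ∈ Finset.range (p + 1), (u ^ p).coeff m := by
    have hev : (u ^ p).eval₂ (RingHom.id A) 1 = (a + b) ^ p := by
      have hu1 : u.eval₂ (RingHom.id A) 1 = a + b := by rw [hu, (commute_X (C b)).eq]; simp
      have : ∀ n, (u ^ n).eval₂ (RingHom.id A) 1 = (a + b) ^ n := fun n => by
        induction n with
        | zero => simp
        | succ n ih => rw [pow_succ, eval₂_mul_noncomm _ _ (fun _ => Commute.one_right _), ih, hu1, pow_succ]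
      exact this p
    rw [← hev, eval₂_eq_sum_range' _ hdegp]
    simp
  have h0 : (u ^ p).coeff 0 = a ^ p := by
    have h : ∀ n, (u ^ n).coeff 0 = a ^ n := fun n => by
      induction n with
      | zero => simp
      | succ n ih => rw [pow_succ, mul_coeff_zero, ih, pow_succ, hu]; simp
    exact h p
  have htop : (u ^ p).coeff p = b ^ p := by
    have := coeff_pow_of_natDegree_le (m := p) hdeg
    rw [mul_one] at this
    rw [this, hu, coeff_add, coeff_C, coeff_X_mul]
    simp
  let ι := ZMod.castHom (dvd_refl p) R
  have hinv : ∀ m, m + 1 < p → (u ^ p).coeff (m + 1) =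
      -∑ w : Fin (p - 1) → Bool, if Fintype.card {i // w i = true} = m then
        ι ((Fintype.card {i // w i = false} : ZMod p)⁻¹) • PLie.bracketWord (PLie.pair a b) b (List.ofFn w) else 0 := fun m hm => by
    have hne : ((m + 1 : ℕ) : ZMod p) ≠ 0 := fun h => by
      rw [ZMod.natCast_eq_zero_iff] at h
      exact absurd (Nat.le_of_dvd (by omega) h) (by omega)
    have hmul : (m : A) + 1 = algebraMap R A (ι ((m + 1 : ℕ) : ZMod p)) := by
      rw [map_natCast, map_natCast, Nat.cast_succ]
    have hcard : ∀ w : Fin (p - 1) → Bool, Fintype.card {i // w i = true} = m →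
        ((Fintype.card {i // w i = false} : ℕ) : ZMod p) = -((m + 1 : ℕ) : ZMod p) := fun w hw => by
      have h := Fintype.card_subtype_compl (fun i => w i = true)
      simp only [Bool.not_eq_true] at h
      rw [h, hw, Fintype.card_fin, eq_neg_iff_add_eq_zero, ← Nat.cast_add, show p - 1 - m + (m + 1) = p by omega, ZMod.natCast_self]
    have := congrArg (fun z => ι ((m + 1 : ℕ) : ZMod p)⁻¹ • z) (hcoeff m)
    rw [hmul, ← Algebra.commutes, ← Algebra.smul_def, smul_smul, ← map_mul, inv_mul_cancel₀ hne, map_one, one_smul,
      Finset.smul_sum] at this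
    rw [this, ← Finset.sum_neg_distrib]
    refine Finset.sum_congr rfl fun w _ => ?_
    split_ifs with hw
    · rw [hcard w hw, inv_neg, map_neg, neg_smul, neg_neg]
    · simp
  rw [h1, Finset.sum_range_succ, htop, show Finset.range p = Finset.range (q + 1) by rw [hq], Finset.sum_range_succ', h0,
    Finset.sum_congr rfl fun m hm => hinv m (by rw [Finset.mem_range] at hm; omega), Finset.sum_neg_distrib, Finset.sum_comm]
  have hJ : ∀ w : Fin (p - 1) → Bool,
      (∑ m ∈ Finset.range q, if Fintype.card {i // w i = true} = m then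
        ι ((Fintype.card {i // w i = false} : ZMod p)⁻¹) • PLie.bracketWord (PLie.pair a b) b (List.ofFn w) else 0) =
      ι ((Fintype.card {i // w i = false} : ZMod p)⁻¹) • PLie.bracketWord (PLie.pair a b) b (List.ofFn w) := fun w => by
    rw [Finset.sum_ite_eq]
    split_ifs with h
    · rfl
    · rw [Finset.mem_range] at h
      have h2 := Fintype.card_subtype_compl (fun i => w i = true)
      simp only [Bool.not_eq_true] at h2
      rw [Fintype.card_fin] at h2
      rw [show Fintype.card {i // w i = false} = 0 by omega, Nat.cast_zero, inv_zero, map_zero, zero_smul]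
  rw [Finset.sum_congr rfl fun w _ => hJ w]
  show _ = a ^ p + b ^ p - ∑ w, _
  abel

end Groth.Agent.PLieLib
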