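import Groth.Agent.PLieLib.Existence
import Mathlib.LinearAlgebra.Matrix.ToLin

/-! Existence of `p`-maps on a Lie algebra of rank three, in matrix form. -/

set_option autoImplicit false

universe u v

namespace Groth.Agent.PLieLib

variable {R : Type u} [CommRing R] {p : ℕ} [Fact p.Prime] [CharP R p] {L : Type v} [LieRing L] [LieAlgebra R L]

/-- the matrix of `ad w` is a combination of those of the basis vectors -/
theorem toMatrix_ad {n : Type} [Fintype n] [DecidableEq n] (bs : Module.Basis n R L) (w : L) :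
    LinearMap.toMatrixAlgEquiv bs (LieAlgebra.ad R L w) =
      ∑ j, bs.repr w j • LinearMap.toMatrixAlgEquiv bs (LieAlgebra.ad R L (bs j)) := by
  conv_lhs => rw [← bs.sum_repr w]
  rw [map_sum, map_sum]
  simp only [map_smul]

theorem nonempty_pmap_iff_matrix (bs : Module.Basis (Fin 3) R L) (M : Fin 3 → Matrix (Fin 3) (Fin 3) R)
    (hM : ∀ i, LinearMap.toMatrixAlgEquiv bs (LieAlgebra.ad R L (bs i)) = M i) :
    Nonempty (PLie.PMap R p L) ↔ ∀ i, ∃ w : Fin 3 → R, M i ^ p = w 0 • M 0 + w 1 • M 1 + w 2 • M 2 := by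
  constructor
  · rintro ⟨φ⟩ i
    refine ⟨fun j => bs.repr (φ (bs i)) j, ?_⟩
    have h : LieAlgebra.ad R L (φ (bs i)) = LieAlgebra.ad R L (bs i) ^ p :=
      LinearMap.ext fun y => lie_map φ (bs i) y
    have h2 := toMatrix_ad bs (φ (bs i))
    rw [h, map_pow, Fin.sum_univ_three, hM, hM, hM, hM] at h2
    exact h2
  · intro h
    choose w hw using h
    obtain ⟨φ, -⟩ := exists_pmap (p := p) bs (fun i => ∑ j, w i j • bs j) fun i => by
      apply (LinearMap.toMatrixAlgEquiv bs).injective
      rw [map_pow, hM, hw, Fin.sum_univ_three]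
      simp [map_add, map_smul, hM]
    exact ⟨φ⟩

end Groth.Agent.PLieLib
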